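import Groth.Agent.WEtLib.Normal
import Groth.Agent.AzumayaX.SepElement
import Mathlib.RingTheory.AdjoinRoot

/-! `T ^ N = f` with `f`, `N` units over an integrally closed domain. -/

set_option autoImplicit false
universe u
open Polynomial TensorProduct

namespace Groth.Agent.CycEtLib

variable {B : Type u} [CommRing B]

theorem separable_root {N : ℕ} (hN : 0 < N) (hNu : IsUnit (N : B)) {f : B} (hf : IsUnit f) :
    (X ^ N - C f : B[X]).Separable := by
  obtain ⟨n, rfl⟩ : ∃ n, N = n + 1 := ⟨N - 1, by omega⟩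
  obtain ⟨fi, hfi⟩ := hf.exists_right_inv
  obtain ⟨ni, hni⟩ := hNu.exists_right_inv
  rw [separable_def', derivative_sub, derivative_C, sub_zero, derivative_X_pow]
  refine ⟨-C fi, C (fi * ni) * X, ?_⟩
  have e1 : C f * C fi = 1 := by rw [← map_mul, hfi, map_one]
  have e2 : C ((n + 1 : ℕ) : B) * C ni = 1 := by rw [← map_mul, hni, map_one]
  simp only [Nat.add_sub_cancel, map_mul, pow_succ]
  linear_combination e1 + (C fi * X ^ n * X) * e2

theorem etale_root {N : ℕ} (hN : 0 < N) (hNu : IsUnit (N : B)) {f : B} (hf : IsUnit f) :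
    Algebra.Etale B (AdjoinRoot (X ^ N - C f)) :=
  AzumayaX.etale_adjoinRoot (monic_X_pow_sub_C f hN.ne') (separable_root hN hNu hf)

/-- An étale algebra over an integrally closed domain is closed under the integral equations of denominators. -/
theorem surjective_of_integral [IsDomain B] [IsIntegrallyClosed B] {A : Type u} [CommRing A] [Algebra B A]
    [Algebra.Etale B A] {C : Type u} [CommRing C] (φ : A →+* C) (hinj : Function.Injective φ)
    (hint : (φ.comp (algebraMap B A)).IsIntegral) {g : B} (hg : g ≠ 0)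
    (hreg : ∀ c : C, φ (algebraMap B A g) * c = 0 → c = 0)
    (hloc : ∀ c : C, ∃ (n : ℕ) (a : A), φ (algebraMap B A g) ^ n * c = φ a) : Function.Surjective φ := by
  intro c
  obtain ⟨n, a, ha⟩ := hloc c
  obtain ⟨p, hp, hpc⟩ := hint c
  let K := FractionRing B
  have hcl := WEtLib.isIntegrallyClosedIn_tensor (A := B) K A
  have hb0 : g ^ n ≠ 0 := pow_ne_zero n hg
  let q := p.scaleRoots (g ^ n)
  have hqa : Polynomial.eval₂ (algebraMap B A) a q = 0 := by
    apply hinj
    rw [hom_eval₂, map_zero, ← ha]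
    have h := Polynomial.scaleRoots_eval₂_mul (φ.comp (algebraMap B A)) (p := p) c (g ^ n)
    rw [RingHom.comp_apply, map_pow, map_pow, hpc, mul_zero] at h
    exact h
  let M := A ⊗[B] K
  let t : M := a ⊗ₜ[B] (algebraMap B K (g ^ n))⁻¹
  have hg0 : algebraMap B K (g ^ n) ≠ 0 := (IsFractionRing.to_map_eq_zero_iff (K := K)).not.2 hb0
  have hmul : algebraMap B M (g ^ n) * t = algebraMap A M a := by
    show algebraMap B M (g ^ n) * t = a ⊗ₜ[B] (1 : K)
    rw [← Algebra.smul_def, TensorProduct.smul_tmul', TensorProduct.smul_tmul, Algebra.smul_def, mul_inv_cancel₀ hg0]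
  have hu : IsUnit (algebraMap B M (g ^ n)) := by
    have e : algebraMap B M (g ^ n) = (Algebra.TensorProduct.includeRight : K →ₐ[B] M) (algebraMap B K (g ^ n)) :=
      (AlgHom.commutes _ _).symm
    rw [e]
    exact (IsUnit.mk0 _ hg0).map _
  have hroot : Polynomial.eval₂ (algebraMap B M) t p = 0 := by
    have h1 : Polynomial.eval₂ (algebraMap B M) (algebraMap B M (g ^ n) * t) q = 0 := by
      rw [hmul, IsScalarTower.algebraMap_eq B A M, ← hom_eval₂, hqa, map_zero]
    rw [Polynomial.scaleRoots_eval₂_mul] at h1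
    exact (hu.pow _).mul_right_eq_zero.1 h1
  obtain ⟨a', ha'⟩ := (isIntegrallyClosedIn_iff.1 hcl).2
    ⟨p.map (algebraMap B A), hp.map _, by rw [eval₂_map, ← IsScalarTower.algebraMap_eq]; exact hroot⟩
  have e3 : algebraMap B A (g ^ n) * a' = a := (isIntegrallyClosedIn_iff.1 hcl).1 (by
    rw [map_mul, ← IsScalarTower.algebraMap_apply, ha', hmul])
  refine ⟨a', ?_⟩
  have e4 : φ (algebraMap B A g) ^ n * (φ a' - c) = 0 := by
    rw [mul_sub, ha, ← map_pow, ← map_mul, ← map_pow, e3, sub_self]
  have : ∀ (m : ℕ) (z : C), φ (algebraMap B A g) ^ m * z = 0 → z = 0 := by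
    intro m
    induction m with
    | zero => intro z hz; simpa using hz
    | succ m ih => intro z hz; rw [pow_succ', mul_assoc] at hz; exact ih z (hreg _ hz)
  exact sub_eq_zero.1 (this n _ e4)

/-- Base change of the root algebra along a ring map. -/
noncomputable def rootMap {B' : Type u} [CommRing B'] (r : B →+* B') (N : ℕ) (f : B) :
    AdjoinRoot (X ^ N - C f) →+* AdjoinRoot (X ^ N - C (r f)) :=
  AdjoinRoot.map r _ _ (by simp)

theorem rootMap_mk {B' : Type u} [CommRing B'] (r : B →+* B') (N : ℕ) (f : B) (p : B[X]) :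
    rootMap r N f (AdjoinRoot.mk _ p) = AdjoinRoot.mk _ (p.map r) := by
  rw [rootMap, AdjoinRoot.map, AdjoinRoot.lift_mk, ← eval₂_map]
  exact (AdjoinRoot.aeval_eq _)

theorem rootMap_injective {B' : Type u} [CommRing B'] {r : B →+* B'} (hr : Function.Injective r)
    {N : ℕ} (hN : 0 < N) (f : B) : Function.Injective (rootMap r N f) := by
  rw [injective_iff_map_eq_zero]
  intro x hx
  obtain ⟨p, rfl⟩ := AdjoinRoot.mk_surjective x
  rw [rootMap_mk, AdjoinRoot.mk_eq_zero] at hx
  rw [AdjoinRoot.mk_eq_zero, ← Polynomial.map_dvd_map r hr (monic_X_pow_sub_C f hN.ne')]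
  simpa using hx

/-- Clearing denominators. -/
theorem exists_num {B' : Type u} [CommRing B'] [Algebra B B'] (g : B) [IsLocalization.Away g B']
    (N : ℕ) (f : B) (x : AdjoinRoot (X ^ N - C (algebraMap B B' f))) :
    ∃ (n : ℕ) (a : AdjoinRoot (X ^ N - C f)),
      AdjoinRoot.of _ (algebraMap B B' g) ^ n * x = rootMap (algebraMap B B') N f a := by
  obtain ⟨p, rfl⟩ := AdjoinRoot.mk_surjective x
  obtain ⟨⟨b, hb⟩, hq⟩ := IsLocalization.integerNormalization_map_to_map (Submonoid.powers g) p
  obtain ⟨n, rfl⟩ := hb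
  refine ⟨n, AdjoinRoot.mk _ (IsLocalization.integerNormalization (Submonoid.powers g) p), ?_⟩
  rw [rootMap_mk]
  rw [hq, Algebra.smul_def, map_mul]
  simp [AdjoinRoot.mk_C, Polynomial.algebraMap_apply]

end Groth.Agent.CycEtLib
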