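import Groth.Prelude.Def_LogNCD
import Groth.Agent.GeomReg.Basic
import Mathlib.RingTheory.RegularLocalRing.Polynomial
import Mathlib.RingTheory.Etale.Basic
import Mathlib.AlgebraicGeometry.AffineSpace
import Mathlib.AlgebraicGeometry.Morphisms.Etale
import Mathlib.RingTheory.Flat.FaithfullyFlat.Algebra
import Mathlib.RingTheory.RingHom.Etale

/-! Étale coordinates: a coordinate cuts out a regular quotient. -/

set_option autoImplicit false
set_option backward.isDefEq.respectTransparency false
set_option backward.isDefEq.respectTransparency.types false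
universe u
open CategoryTheory AlgebraicGeometry TopologicalSpace MvPolynomial

namespace Groth.Agent.CycEtLib

theorem isRegularRing_quot_X (k : Type u) [Field k] (σ : Type u) [Finite σ] (e : σ) :
    IsRegularRing (MvPolynomial σ k ⧸ Ideal.span {(X e : MvPolynomial σ k)}) := by
  classical
  let τ : Type u := {i : σ // i ≠ e}
  let ψ : MvPolynomial σ k →ₐ[k] MvPolynomial τ k := aeval fun i => if h : i = e then 0 else X ⟨i, h⟩
  let ι : MvPolynomial τ k →ₐ[k] MvPolynomial σ k := rename Subtype.val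
  have hψι : ψ.comp ι = AlgHom.id k _ := algHom_ext fun i => by
    simp [ψ, ι, rename_X, i.2]
  have hsurj : Function.Surjective ψ := fun p => ⟨ι p, DFunLike.congr_fun hψι p⟩
  let q := Ideal.Quotient.mkₐ k (Ideal.span {(X e : MvPolynomial σ k)})
  have hq : (q.comp ι).comp ψ = q := algHom_ext fun i => by
    by_cases h : i = e
    · subst h
      have h0 : q (X i) = 0 := Ideal.Quotient.eq_zero_iff_mem.2 (Ideal.mem_span_singleton_self _)
      simp [ψ, h0]
    · simp [ψ, ι, h]
  have hker : RingHom.ker ψ = Ideal.span {(X e : MvPolynomial σ k)} := by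
    refine le_antisymm (fun p hp => ?_) (by
      rw [Ideal.span_le, Set.singleton_subset_iff]; simp [ψ])
    refine Ideal.Quotient.eq_zero_iff_mem.1 ?_
    have h1 : q p = q (ι (ψ p)) := (DFunLike.congr_fun hq p).symm
    rw [show ψ p = 0 from hp, map_zero, map_zero] at h1
    exact h1
  exact IsRegularRing.of_ringEquiv
    ((Ideal.quotEquivOfEq hker.symm).trans (RingHom.quotientKerEquivOfSurjective (f := ψ.toRingHom) hsurj)).symm

theorem regular_of_etale_coord {k : Type u} [Field k] {σ : Type u} [Finite σ] {B : Type u} [CommRing B] [Nontrivial B]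
    (ρ : MvPolynomial σ k →+* B) (hρ : ρ.Etale) (e : σ) :
    IsRegularRing (B ⧸ Ideal.span {ρ (X e)}) ∧ ρ (X e) ≠ 0 := by
  letI := ρ.toAlgebra
  haveI : Algebra.Etale (MvPolynomial σ k) B := hρ
  haveI := isRegularRing_quot_X k σ e
  refine ⟨?_, fun h0 => ?_⟩
  · let I : Ideal (MvPolynomial σ k) := Ideal.span {X e}
    haveI : IsRegularRing (TensorProduct (MvPolynomial σ k) (MvPolynomial σ k ⧸ I) B) :=
      GeomReg.isRegularRing_of_smooth (MvPolynomial σ k ⧸ I) _
    have hI : I.map (algebraMap _ B) = Ideal.span {ρ (X e)} := by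
      rw [Ideal.map_span, Set.image_singleton]; rfl
    let E : B ⧸ I.map (algebraMap _ B) ≃+* TensorProduct (MvPolynomial σ k) (MvPolynomial σ k ⧸ I) B :=
      (Algebra.TensorProduct.quotIdealMapEquivTensorQuot B I).toRingEquiv.trans
        (Algebra.TensorProduct.comm _ _ B).symm.toRingEquiv
    haveI : IsRegularRing (B ⧸ I.map (algebraMap _ B)) :=
      IsRegularRing.of_ringEquiv (R := TensorProduct (MvPolynomial σ k) (MvPolynomial σ k ⧸ I) B) E.symm
    exact IsRegularRing.of_ringEquiv (Ideal.quotEquivOfEq hI)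
  · have hreg : IsSMulRegular (MvPolynomial σ k) (X e : MvPolynomial σ k) := fun a b h =>
      mul_left_cancel₀ (X_ne_zero e) (by simpa using h)
    have h1 := hreg.of_flat (S := B)
    refine one_ne_zero (α := B) ((h1 : Function.Injective _) ?_)
    show algebraMap _ B (X e) * 1 = algebraMap _ B (X e) * 0
    rw [RingHom.algebraMap_toAlgebra, h0, zero_mul, zero_mul]

/-- The coordinate ring map of an étale chart on an affine open. -/
theorem exists_coordMap {k : Type u} [Field k] {X : Scheme.{u}} (f : X ⟶ Spec (CommRingCat.of k)) {n : ℕ}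
    (W : X.Opens) (v : ULift.{u} (Fin n) → Γ(W, ⊤)) (hv : Etale (AffineSpace.homOfVector (W.ι ≫ f) v))
    (U : X.affineOpens) (h : U.1 ≤ W) :
    ∃ ρ : MvPolynomial (ULift.{u} (Fin n)) k →+* Γ(X, U.1), ρ.Etale ∧ ∀ i, ρ (MvPolynomial.X i) = LogNCD.sectOn W h (v i) := by
  haveI := hv
  haveI : IsAffine U.1.toScheme := U.2
  let ψ := (X.homOfLE h ≫ AffineSpace.homOfVector (W.ι ≫ f) v) ≫
    (AffineSpace.SpecIso (ULift.{u} (Fin n)) (CommRingCat.of k)).hom
  let P : CommRingCat.{u} := CommRingCat.of (MvPolynomial (ULift.{u} (Fin n)) k)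
  have hψ : Etale (ψ : U.1.toScheme ⟶ Spec P) := inferInstance
  have hψ' : (Scheme.Hom.appTop (ψ : U.1.toScheme ⟶ Spec P)).hom.Etale :=
    (HasRingHomProperty.iff_of_isAffine (P := @Etale)).1 hψ
  refine ⟨(((Scheme.ΓSpecIso P).inv ≫ Scheme.Hom.appTop (ψ : U.1.toScheme ⟶ Spec P)) ≫ U.1.topIso.hom).hom, ?_, fun i => ?_⟩
  · exact RingHom.Etale.respectsIso.1 _ U.1.topIso.commRingCatIsoToRingEquiv
      (RingHom.Etale.respectsIso.2 _ (Scheme.ΓSpecIso P).symm.commRingCatIsoToRingEquiv hψ')
  · show U.1.topIso.hom (ψ.appTop ((Scheme.ΓSpecIso P).inv (MvPolynomial.X i))) = _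
    simp only [ψ, Scheme.Hom.comp_appTop, CommRingCat.comp_apply]
    rw [AffineSpace.SpecIso_hom_appTop]
    simp only [CommRingCat.comp_apply]
    erw [Iso.inv_hom_id_apply]
    simp only [CommRingCat.hom_ofHom, MvPolynomial.eval₂Hom_X']
    erw [AffineSpace.homOfVector_appTop_coord]
    rw [LogNCD.sectOn_apply, Scheme.Hom.appTop, ← CommRingCat.comp_apply, ← CommRingCat.comp_apply]
    congr 1
    simp [Scheme.homOfLE_app, Scheme.Opens.topIso_hom, ← Functor.map_comp]

end Groth.Agent.CycEtLib
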