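import Groth.Agent.ModPairLib.Basic
import Mathlib.AlgebraicGeometry.IdealSheaf.Functorial

/-! Equality of ideal sheaves on one affine open, checked locally. -/

set_option autoImplicit false
universe u
open CategoryTheory AlgebraicGeometry TopologicalSpace

namespace Groth.Agent.CycEtLib

variable {X : Scheme.{u}}

set_option backward.isDefEq.respectTransparency false in
theorem ideal_le_of_local {I J : X.IdealSheafData} (V : X.affineOpens)
    (h : ∀ y ∈ V.1, ∃ U : X.affineOpens, y ∈ U.1 ∧ I.ideal U ≤ J.ideal U) : I.ideal V ≤ J.ideal V := by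
  choose U hU hle using h
  have : ∀ x : V.1, ∃ (r : Γ(X, V.1)) (rU : Γ(X, U x.1 x.2)),
      X.basicOpen r = X.basicOpen rU ∧ x.1 ∈ X.basicOpen r :=
    fun x => exists_basicOpen_le_affine_inter V.2 (U x.1 x.2).2 _ ⟨x.2, hU x.1 x.2⟩
  choose r rU e hxr using this
  have hspan : Ideal.span (Set.range r) = ⊤ := by
    rw [← V.2.self_le_iSup_basicOpen_iff]
    exact fun x hxV ↦ TopologicalSpace.Opens.mem_iSup.mpr ⟨⟨_, _, rfl⟩, hxr ⟨x, hxV⟩⟩
  have inst := V.2.isLocalization_basicOpen
  refine Submodule.le_of_isLocalized_span _ hspan (fun i ↦ Γ(X, X.basicOpen i.1))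
    (fun i ↦ Algebra.linearMap Γ(X, V.1) Γ(X, X.basicOpen i.1)) ?_
  rintro ⟨_, j, rfl⟩
  simp only [← Submodule.restrictScalars_localized' Γ(X, X.basicOpen (r j)),
    Ideal.localized'_eq_map, RingHom.algebraMap_toAlgebra]
  erw [I.map_ideal (U := ⟨_, V.2.basicOpen _⟩) (X.basicOpen_le (r j)),
    J.map_ideal (U := ⟨_, V.2.basicOpen _⟩) (X.basicOpen_le (r j))]
  delta Scheme.algebra_section_section_basicOpen
  rw! [e]
  rw [← I.map_ideal (V := (U _ j.2)) (X.basicOpen_le _), ← J.map_ideal (V := (U _ j.2)) (X.basicOpen_le _)]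
  exact Ideal.map_mono (f := (X.presheaf.map (homOfLE (X.basicOpen_le (rU j))).op).hom) (hle _ j.2)

theorem ideal_eq_of_local {I J : X.IdealSheafData} (V : X.affineOpens)
    (h : ∀ y ∈ V.1, ∃ U : X.affineOpens, y ∈ U.1 ∧ I.ideal U = J.ideal U) : I.ideal V = J.ideal V :=
  le_antisymm (ideal_le_of_local V fun y hy => (h y hy).imp fun _ hU => ⟨hU.1, hU.2.le⟩)
    (ideal_le_of_local V fun y hy => (h y hy).imp fun _ hU => ⟨hU.1, hU.2.ge⟩)

theorem ideal_prod {ι : Type*} (s : Finset ι) (I : ι → X.IdealSheafData) (U : X.affineOpens) :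
    (∏ j ∈ s, I j).ideal U = ∏ j ∈ s, (I j).ideal U := by
  classical
  induction s using Finset.induction with
  | empty => simp only [Finset.prod_empty]; exact Ideal.one_eq_top.symm
  | insert a s ha ih =>
    rw [Finset.prod_insert ha, Finset.prod_insert ha, Scheme.IdealSheafData.ideal_mul, Pi.mul_apply, ih]

end Groth.Agent.CycEtLib
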