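import Groth.Agent.CycCovLib.Cyclic
import Groth.Prelude.Def_EGA4b

/-! The normalised cyclic cover near a regular branch component, algebraically. -/

set_option autoImplicit false
universe u
open Polynomial

namespace Groth.Agent.CycEtLib

/-- In a normal ring a denominator of an integral fraction divides. -/
theorem dvd_of_scaleRoots_root {B C : Type u} [CommRing B] [CommRing C] [Algebra B C]
    (hC : EGA4.IsNormalRing C) (h : B) (hreg : IsLeftRegular (algebraMap B C h)) (a : C) (n : ℕ) (p : B[X])
    (hp : p.Monic) (ha : eval₂ (algebraMap B C) a (p.scaleRoots (h ^ n)) = 0) :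
    algebraMap B C h ^ n ∣ a := by
  set d := algebraMap B C h ^ n with hd
  let I : Ideal C := (Ideal.span {d}).colon (Ideal.span {a} : Ideal C)
  suffices hI : I = ⊤ by
    have h1 : (1 : C) ∈ I := hI ▸ trivial
    have h2 := Submodule.mem_colon.1 h1 a (Ideal.mem_span_singleton_self a)
    rw [one_smul] at h2
    exact Ideal.mem_span_singleton.1 h2
  by_contra hne
  obtain ⟨P, hP, hIP⟩ := Ideal.exists_le_maximal I hne
  haveI := hP.isPrime
  obtain ⟨hdom, hcl⟩ := hC P
  haveI := hdom
  haveI := hcl
  let L := Localization.AtPrime P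
  let K := FractionRing L
  have hd0 : algebraMap C L d ≠ 0 := fun h0 => by
    obtain ⟨⟨s, hs⟩, hs0⟩ := (IsLocalization.map_eq_zero_iff P.primeCompl L d).1 h0
    exact hs (((hreg.pow n) (show d * s = d * 0 by rw [mul_zero, mul_comm]; exact hs0)) ▸ P.zero_mem)
  have hd1 : algebraMap L K (algebraMap C L d) ≠ 0 := (IsFractionRing.to_map_eq_zero_iff (K := K)).not.2 hd0
  have hq : eval₂ ((algebraMap L K).comp ((algebraMap C L).comp (algebraMap B C)))
      (algebraMap L K (algebraMap C L a) / algebraMap L K (algebraMap C L d)) p = 0 := by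
    set ψ := (algebraMap L K).comp ((algebraMap C L).comp (algebraMap B C))
    have e1 : ψ (h ^ n) = algebraMap L K (algebraMap C L d) := by
      simp only [ψ, RingHom.comp_apply, map_pow, hd]
    have e2 := congrArg (fun z => algebraMap L K (algebraMap C L z)) ha
    simp only [map_zero, hom_eval₂, RingHom.comp_assoc] at e2
    have e3 := Polynomial.scaleRoots_eval₂_mul ψ (p := p)
      (algebraMap L K (algebraMap C L a) / algebraMap L K (algebraMap C L d)) (h ^ n)
    rw [e1, mul_div_cancel₀ _ hd1, e2] at e3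
    exact (mul_eq_zero.1 e3.symm).resolve_left (pow_ne_zero _ hd1)
  obtain ⟨b, hb⟩ := IsIntegrallyClosed.isIntegral_iff.1
    (⟨p.map ((algebraMap C L).comp (algebraMap B C)), hp.map _, by rw [eval₂_map]; exact hq⟩ :
      IsIntegral L (algebraMap L K (algebraMap C L a) / algebraMap L K (algebraMap C L d)))
  have hb2 : algebraMap C L a = b * algebraMap C L d := IsFractionRing.injective L K (by
    rw [map_mul, hb, div_mul_cancel₀ _ hd1])
  obtain ⟨⟨x, s⟩, hxs⟩ := IsLocalization.surj P.primeCompl b
  have h3 : algebraMap C L (a * s.1) = algebraMap C L (x * d) := by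
    rw [map_mul, map_mul, hb2, ← hxs]; ring
  obtain ⟨t, ht⟩ := (IsLocalization.eq_iff_exists P.primeCompl L).1 h3
  refine (Submonoid.mul_mem _ t.2 s.2 : t.1 * s.1 ∈ P.primeCompl) (hIP (Submodule.mem_colon.2 fun z hz => ?_))
  obtain ⟨c, rfl⟩ := Ideal.mem_span_singleton.1 hz
  rw [smul_eq_mul, Ideal.mem_span_singleton]
  exact ⟨t.1 * x * c, by linear_combination c * ht⟩

open CycCovLib in
/-- The normalised cover near a regular branch component is the explicit model. -/
theorem exists_model {B C : Type u} [CommRing B] [IsDomain B] [IsRegularRing B] [CommRing C] [Algebra B C]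
    (u : Bˣ) (h : B) [IsRegularRing (B ⧸ Ideal.span {h})] (hh : h ≠ 0) (N α : ℕ) (hN : 0 < N)
    (hNB : IsUnit (N : B)) (hfinC : Module.Finite B C) (hC : EGA4.IsNormalRing C)
    (hreg : IsLeftRegular (algebraMap B C h))
    (φ : AdjoinRoot (X ^ N - Polynomial.C ((u : B) * h ^ α) : B[X]) →ₐ[B] C) (hinj : Function.Injective φ)
    (hloc : ∀ c : C, ∃ (n : ℕ) (a : AdjoinRoot (X ^ N - Polynomial.C ((u : B) * h ^ α) : B[X])),
      algebraMap B C h ^ n * c = φ a) :
    ∃ (g m i : ℕ), g = Nat.gcd N α ∧ N = g * m ∧ Nonempty (DD g u m i h ≃ₐ[B] C) := by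
  let A0 := AdjoinRoot (X ^ N - Polynomial.C ((u : B) * h ^ α) : B[X])
  let K := Localization.Away (algebraMap B C h)
  letI : Algebra A0 K := ((algebraMap C K).comp φ.toRingHom).toAlgebra
  haveI : IsScalarTower B A0 K := IsScalarTower.of_algebraMap_eq fun b => by
    show _ = algebraMap C K (φ _)
    rw [φ.commutes, ← IsScalarTower.algebraMap_apply]
  have hCK : Function.Injective (algebraMap C K) := IsLocalization.injective K (M := Submonoid.powers (algebraMap B C h))
    (by rintro _ ⟨n, rfl⟩
        exact mem_nonZeroDivisors_iff_right.2 fun z hz => (hreg.pow n) (show _ * z = _ * 0 by rw [mul_zero, mul_comm]; exact hz))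
  haveI : IsLocalization.Away (algebraMap B A0 h) K := by
    refine ⟨?_, fun z => ?_, fun {x y} hxy => ⟨1, ?_⟩⟩
    · rintro ⟨_, n, rfl⟩
      show IsUnit (algebraMap C K (φ _))
      rw [map_pow, φ.commutes, map_pow]
      exact (IsLocalization.Away.algebraMap_isUnit _).pow n
    · obtain ⟨⟨c, ⟨_, k, rfl⟩⟩, hc⟩ := IsLocalization.surj (Submonoid.powers (algebraMap B C h)) z
      obtain ⟨n, a, ha⟩ := hloc c
      refine ⟨⟨a, ⟨_, n + k, rfl⟩⟩, ?_⟩
      show z * algebraMap C K (φ _) = algebraMap C K (φ a)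
      rw [map_pow, φ.commutes, map_pow, ← ha, map_mul, map_pow, ← hc, map_pow, pow_add]
      ring
    · rw [hinj (hCK hxy)]
  let A : Subalgebra B K := Algebra.adjoin B (Set.range fun j : Fin N =>
    algebraMap A0 K (AdjoinRoot.root (X ^ N - Polynomial.C ((u : B) * h ^ α) : B[X]) ^ (j : ℕ)) *
      IsLocalization.Away.invSelf (S := K) (algebraMap B A0 h) ^ ((j : ℕ) * α / N))
  obtain ⟨hfin, hint, -, g, m, i, hg, hm, ⟨e⟩⟩ := main_equiv (K := K) N α hN hNB hh A rfl
  refine ⟨g, m, i, hg, hm, ⟨?_⟩⟩
  let ι : C →ₐ[B] K := IsScalarTower.toAlgHom B C K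
  have hrange : ι.range = A := by
    refine le_antisymm ?_ ?_
    · rintro _ ⟨c, rfl⟩
      exact (hint _).1 (((Algebra.IsIntegral.of_finite B C).isIntegral c).map ι).tower_top
    · intro x hx
      haveI := hfin
      have hxi : IsIntegral B x := ((Algebra.IsIntegral.of_finite B A).isIntegral ⟨x, hx⟩).map A.val
      obtain ⟨p, hp, hpx⟩ := hxi
      obtain ⟨⟨c, ⟨_, k, rfl⟩⟩, hc⟩ := IsLocalization.surj (Submonoid.powers (algebraMap B C h)) x
      rw [map_pow, ← IsScalarTower.algebraMap_apply] at hc
      have hroot : eval₂ (algebraMap B C) c (p.scaleRoots (h ^ k)) = 0 := hCK (by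
        rw [hom_eval₂, map_zero, ← IsScalarTower.algebraMap_eq, ← hc, mul_comm, ← map_pow,
          Polynomial.scaleRoots_eval₂_mul, hpx, mul_zero])
      obtain ⟨c', hc'⟩ := dvd_of_scaleRoots_root hC h hreg c k p hp hroot
      refine ⟨c', ?_⟩
      show algebraMap C K c' = x
      have hu : IsUnit (algebraMap B K h ^ k) := by
        rw [IsScalarTower.algebraMap_apply B C K]
        exact (IsLocalization.Away.algebraMap_isUnit _).pow k
      refine hu.mul_left_cancel ?_
      rw [mul_comm _ x, hc, hc', map_mul, map_pow, ← IsScalarTower.algebraMap_apply]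
  exact e.trans ((Subalgebra.equivOfEq _ _ hrange.symm).trans (AlgEquiv.ofInjective ι hCK).symm)

open CycCovLib in
/-- Regularity and ramification in the model. -/
theorem model_props {B : Type u} [CommRing B] [IsDomain B] [IsRegularRing B]
    {g m i : ℕ} {u : Bˣ} {h : B} [IsRegularRing (B ⧸ Ideal.span {h})] (hh : h ≠ 0)
    (hg : 0 < g) (hm : 0 < m) (hgB : IsUnit (g : B)) (hmB : IsUnit (m : B)) :
    IsRegularRing (DD g u m i h) ∧
      (Ideal.span {algebraMap B (DD g u m i h) h}).radical ^ m = Ideal.span {algebraMap B (DD g u m i h) h} := by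
  refine ⟨isRegularRing_DD (u := u) (i := i) hg hgB hm hmB hh, ?_⟩
  haveI := isRegularRing_CC (u := u) hg hgB
  haveI := isRegularRing_CC_quot (u := u) (f := h) hg hgB
  obtain ⟨ψ, hψ, hker⟩ := exists_quot_DD (u := u) (i := i) (f := h) hg hm
  haveI : IsReduced (DD g u m i h ⧸ Ideal.span {S g u m i h}) := by
    haveI := isReduced_of_isRegularRing (CC g u ⧸ Ideal.span {algebraMap B (CC g u) h})
    exact isReduced_of_injective
      ((RingHom.quotientKerEquivOfSurjective hψ).toRingHom.comp (Ideal.quotEquivOfEq hker.symm).toRingHom)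
      ((RingHom.quotientKerEquivOfSurjective hψ).injective.comp (Ideal.quotEquivOfEq hker.symm).injective)
  have hrad : (Ideal.span {S g u m i h}).IsRadical := (Ideal.isRadical_iff_quotient_reduced _).2 inferInstance
  have hspan : Ideal.span {algebraMap B (DD g u m i h) h} = Ideal.span {S g u m i h} ^ m := by
    rw [Ideal.span_singleton_pow]
    show _ = Ideal.span {(AdjoinRoot.root _ : DD g u m i h) ^ m}
    have h1 := (rootD_pow g u m i h).trans ((map_mul (algebraMap (CC g u) (DD g u m i h)) _ _).trans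
      (congrArg (algebraMap (CC g u) (DD g u m i h) (AdjoinRoot.root _ ^ i) * ·)
        (IsScalarTower.algebraMap_apply B (CC g u) (DD g u m i h) h).symm))
    rw [h1]
    exact (Ideal.span_singleton_mul_left_unit (((isUnit_root hg).pow i).map _) _).symm
  rw [hspan, Ideal.radical_pow _ hm.ne', hrad.radical]

end Groth.Agent.CycEtLib
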