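import Groth.Agent.CycEtLib.Cover
import Groth.Agent.CycEtLib.Model
import Groth.Agent.CycEtLib.Ideals
import Groth.Agent.CycEtLib.Coord

/-! The normalised cyclic cover near a point with one branch component. -/

set_option autoImplicit false
set_option backward.isDefEq.respectTransparency false
set_option backward.isDefEq.respectTransparency.types false
universe u
open CategoryTheory AlgebraicGeometry Opposite TopologicalSpace

namespace Groth.Agent.CycEtLib

open CycCov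

variable {X Y : Scheme.{u}} {L : X.Modules} {N : ℕ}
  {s : Coh.structureModule X ⟶ CohB1.tensorPow L N} {π : Y ⟶ X}

/-- What the cover looks like over an affine with equation `u g^α`. -/
theorem exists_iso_model [IsIntegral X] [IsReduced Y] [IsFinite π] (hX : Pi1.IsNormalScheme X)
    (hY : Pi1.IsNormalScheme Y) (R : Root L N s π) (hN : 0 < N) (W : X.Opens) (hWne : Dense (W : Set X))
    (hW : Dense ((π ⁻¹ᵁ W : Y.Opens) : Set Y))
    (hb : ∀ (U : X.affineOpens), U.1 ≤ W → ∀ (e : L.val.obj (op U.1)) (he : IsGen L U.1 e) (f : Γ(X, U.1))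
      (hf : SecTwist.val s U.1 = f • lpow L U.1 e N), Function.Bijective (chart R U e he f hf))
    (U : X.affineOpens) [Nonempty ↥U.1] [IsRegularRing Γ(X, U.1)] (hNu : IsUnit (N : Γ(X, U.1)))
    {e : Γ(L, U.1)} (he : InvX.IsFrame e) (u : Γ(X, U.1)ˣ) (g : Γ(X, U.1)) (α : ℕ) (hg : g ≠ 0)
    [IsRegularRing (Γ(X, U.1) ⧸ Ideal.span {g})]
    (hf : SecTwist.val s U.1 = ((u : Γ(X, U.1)) * g ^ α) • lpow L U.1 e N) :
    IsRegularRing Γ(Y, π ⁻¹ᵁ U.1) ∧
      (Ideal.span {(π.app U.1).hom g}).radical ^ (N / Nat.gcd N α) = Ideal.span {(π.app U.1).hom g} := by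
  haveI : Nonempty ↥U.1.toScheme := ‹Nonempty ↥U.1›
  haveI : IsIntegral U.1.toScheme := isIntegral_of_isOpenImmersion U.1.ι
  let D : X.affineOpens := ⟨X.basicOpen g, U.2.basicOpen g⟩
  have hle : D.1 ≤ U.1 := X.basicOpen_le g
  obtain ⟨x, hx⟩ : ((X.basicOpen g : X.Opens) : Set X).Nonempty := by
    rw [Set.nonempty_iff_ne_empty]
    intro h
    exact hg ((basicOpen_eq_bot_iff g).1 (TopologicalSpace.Opens.ext h))
  haveI hD0 : Nonempty ↥D.1 := ⟨⟨x, hx⟩⟩
  haveI : Nonempty ↥(D.1 : X.Opens).toScheme := ⟨⟨x, hx⟩⟩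
  have hug : IsUnit (X.presheaf.map (homOfLE hle).op ((u : Γ(X, U.1)) * g ^ α)) := by
    rw [map_mul, map_pow]
    exact (u.isUnit.map _).mul (((RingedSpace.isUnit_res_basicOpen _ g : IsUnit (X.presheaf.map (homOfLE hle).op g))).pow α)
  have hNuD : IsUnit (N : Γ(X, D.1)) := by
    have := hNu.map (X.presheaf.map (homOfLE hle).op).hom
    rwa [map_natCast] at this
  have hbD := bijective_chart hX R hN W hWne hW hb D hNuD (he.res hle) hug (eq_smul_res hle hf)
  letI : Algebra Γ(X, U.1) Γ(Y, π ⁻¹ᵁ U.1) := (π.app U.1).hom.toAlgebra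
  let φ : AdjoinRoot (Polynomial.X ^ N - Polynomial.C ((u : Γ(X, U.1)) * g ^ α)) →ₐ[Γ(X, U.1)] Γ(Y, π ⁻¹ᵁ U.1) :=
    { chart R U e (isGen_of_isFrame he) _ hf with
      commutes' := fun b => by
        show chart R U e (isGen_of_isFrame he) _ hf (AdjoinRoot.of _ b) = _
        simp only [chart, AdjoinRoot.lift_of]
        rfl }
  have hφ : ∀ a, φ a = chart R U e (isGen_of_isFrame he) _ hf a := fun _ => rfl
  have hinj : Function.Injective φ := by
    rw [injective_iff_map_eq_zero]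
    intro a ha
    have h1 := chart_res R hle he hf a
    rw [← hφ, ha, map_zero] at h1
    refine rootMap_injective (map_injective_of_isIntegral (X := X) (homOfLE hle)) hN _ ?_
    rw [map_zero]
    exact hbD.1 (h1.symm.trans (map_zero _).symm)
  have hu : IsUnit (Y.presheaf.map (homOfLE (π.preimage_mono hle)).op ((π.app U.1).hom g)) := by
    have h2 : IsUnit (X.presheaf.map (homOfLE hle).op g) := RingedSpace.isUnit_res_basicOpen _ g
    have h3 := ConcreteCategory.congr_hom (π.naturality (homOfLE hle).op) g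
    exact h3 ▸ h2.map (π.app D.1).hom
  have hreg : IsLeftRegular (algebraMap Γ(X, U.1) Γ(Y, π ⁻¹ᵁ U.1) g) := by
    intro a b hab
    refine sub_eq_zero.1 (eq_zero_of_res R hN W hW hb hle he hf _ ?_)
    have h4 := congrArg (Y.presheaf.map (homOfLE (π.preimage_mono hle)).op) hab
    simp only [map_mul] at h4
    rw [map_sub, sub_eq_zero]
    exact hu.mul_left_cancel h4
  have hloc : ∀ c, ∃ (n : ℕ) (a : AdjoinRoot (Polynomial.X ^ N - Polynomial.C ((u : Γ(X, U.1)) * g ^ α))),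
      algebraMap Γ(X, U.1) Γ(Y, π ⁻¹ᵁ U.1) g ^ n * c = φ a := by
    intro c
    obtain ⟨x', hx'⟩ := hbD.2 (Y.presheaf.map (homOfLE (π.preimage_mono hle)).op c)
    letI : Algebra Γ(X, U.1) Γ(X, D.1) := (X.presheaf.map (homOfLE hle).op).hom.toAlgebra
    haveI : IsLocalization.Away g Γ(X, D.1) := U.2.isLocalization_basicOpen g
    obtain ⟨n, a, ha⟩ := exists_num g N _ x'
    refine ⟨n, a, sub_eq_zero.1 (eq_zero_of_res R hN W hW hb hle he hf _ ?_)⟩
    rw [map_sub, map_mul, map_pow, hφ, chart_res R hle he hf a, ← hx', RingHom.algebraMap_toAlgebra]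
    have h3 := ConcreteCategory.congr_hom (π.naturality (homOfLE hle).op) g
    rw [sub_eq_zero]
    erw [← ha]
    refine (congrArg (· * _) ?_).trans (map_mul _ _ _).symm
    refine (congrArg (· ^ n) ?_).trans (map_pow _ _ _).symm
    refine h3.symm.trans ?_
    rw [chart]
    exact (@AdjoinRoot.lift_of Γ(X, D.1) Γ(Y, π ⁻¹ᵁ D.1) _ _ _ (π.app D.1).hom _ _ _).symm
  haveI : IsDomain Γ(X, U.1) := U.1.topIso.commRingCatIsoToRingEquiv.symm.toMulEquiv.isDomain _
  obtain ⟨g', m, i, hg', hNm, ⟨E⟩⟩ := exists_model u g hg N α hN hNu (IsFinite.finite_app π U.1 U.2)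
    (isNormalRing_sections hY (U.2.preimage π)) hreg φ hinj hloc
  have hg0 : 0 < g' := hg' ▸ Nat.gcd_pos_of_pos_left _ hN
  have hm0 : 0 < m := Nat.pos_of_ne_zero fun h => by rw [h, mul_zero] at hNm; omega
  have hgB : IsUnit (g' : Γ(X, U.1)) := isUnit_of_dvd_unit ⟨(m : Γ(X, U.1)), by rw [hNm, Nat.cast_mul]⟩ hNu
  have hmB : IsUnit (m : Γ(X, U.1)) :=
    isUnit_of_dvd_unit ⟨(g' : Γ(X, U.1)), by rw [hNm, Nat.cast_mul, mul_comm]⟩ hNu
  obtain ⟨hr, hrad⟩ := model_props (u := u) (i := i) (h := g) hg hg0 hm0 hgB hmB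
  have hm : N / Nat.gcd N α = m := by
    rw [← hg', hNm, Nat.mul_div_cancel_left _ hg0]
  refine ⟨IsRegularRing.of_ringEquiv E.toRingEquiv, ?_⟩
  have hspan : Ideal.span {(π.app U.1).hom g} =
      (Ideal.span {algebraMap Γ(X, U.1) _ g}).map (E : CycCovLib.DD g' u m i g →+* Γ(Y, π ⁻¹ᵁ U.1)) := by
    rw [Ideal.map_span, Set.image_singleton]
    exact congrArg (fun z => Ideal.span {z}) (E.commutes g).symm
  rw [hm, hspan]
  conv_rhs => rw [← hrad]
  rw [Ideal.map_pow, Ideal.map_radical_of_surjective (f := (E : CycCovLib.DD g' u m i g →+* Γ(Y, π ⁻¹ᵁ U.1)))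
    E.surjective (by
      exact ((RingHom.injective_iff_ker_eq_bot (E : CycCovLib.DD g' u m i g →+* Γ(Y, π ⁻¹ᵁ U.1))).1 E.injective).le.trans bot_le)]

/-- Frame, equation and coordinate around a point with one positive branch component. -/
theorem exists_branch_chart {k : Type u} [Field k] [IsIntegral X] (f : X ⟶ Spec (CommRingCat.of k)) [Smooth f]
    (hL : PicF.IsInvertible L) {r : ℕ} (D : Fin r → X.IdealSheafData) (α : Fin r → ℕ) (hD : LogNCD.IsNCD D f)
    (hs : IsZeroDiv (CohB1.tensorPow L N) s (divIdeal D α)) {x : X} {i₀ : Fin r} (hx : x ∈ (D i₀).support)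
    (O : X.Opens) (hxO : x ∈ O) (hone : ∀ j, j ≠ i₀ → 0 < α j → x ∉ (D j).support) :
    ∃ (U : X.affineOpens) (e : Γ(L, U.1)) (u : Γ(X, U.1)ˣ) (g : Γ(X, U.1)), x ∈ U.1 ∧ U.1 ≤ O ∧
      InvX.IsFrame e ∧ g ≠ 0 ∧ (D i₀).ideal U = Ideal.span {g} ∧
      IsRegularRing Γ(X, U.1) ∧ IsRegularRing (Γ(X, U.1) ⧸ Ideal.span {g}) ∧
      SecTwist.val s U.1 = ((u : Γ(X, U.1)) * g ^ α i₀) • lpow L U.1 e N ∧
      (∀ j, x ∉ (D j).support → (D j).ideal U = ⊤) := by
  classical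
  obtain ⟨W, hxW, n, v, em, -, hv, hDe, hDtop⟩ := hD x ⟨⟨i₀, hx⟩⟩
  obtain ⟨U₀, hxU₀, e₀, he₀⟩ := InvX.exists_frame hL x
  obtain ⟨U, hU, hxU, hle⟩ := exists_isAffineOpen_mem_and_subset (x := x) (U := U₀ ⊓ W ⊓ O) ⟨⟨hxU₀, hxW⟩, hxO⟩
  have hU₀ : U ≤ U₀ := fun z hz => (hle hz).1.1
  have hUW : U ≤ W := fun z hz => (hle hz).1.2
  haveI : Nonempty ↥U := ⟨⟨x, hxU⟩⟩
  haveI : Nonempty ↥(U : X.Opens).toScheme := ⟨⟨x, hxU⟩⟩
  obtain ⟨ρ, hρ, hρX⟩ := exists_coordMap f W v hv ⟨U, hU⟩ hUW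
  let g : Γ(X, U) := ρ (MvPolynomial.X (ULift.up (em ⟨i₀, hx⟩)))
  obtain ⟨hreg, hg0⟩ := regular_of_etale_coord ρ hρ (ULift.up (em ⟨i₀, hx⟩))
  have hI₀ : (D i₀).ideal ⟨U, hU⟩ = Ideal.span {g} := by
    rw [hDe ⟨i₀, hx⟩ ⟨U, hU⟩ hUW, ← hρX]
  have hI : (divIdeal D α).ideal ⟨U, hU⟩ = Ideal.span {g ^ α i₀} := by
    rw [divIdeal, ideal_prod, Finset.prod_eq_single i₀]
    · rw [Scheme.IdealSheafData.ideal_pow, Pi.pow_apply, hI₀, Ideal.span_singleton_pow]
    · intro j _ hj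
      rw [Scheme.IdealSheafData.ideal_pow, Pi.pow_apply]
      rcases Nat.eq_zero_or_pos (α j) with h0 | h0
      · rw [h0, pow_zero]
      · rw [hDtop j (hone j hj h0) ⟨U, hU⟩ hUW, ← Ideal.one_eq_top, one_pow]
    · exact fun h => absurd (Finset.mem_univ _) h
  have hgen : IsGen (CohB1.tensorPow L N) U (lpow L U (AModX.res L hU₀ e₀) N) := by
    rw [lpow_eq]; exact isGen_of_isFrame (AmpleX.isFrame_powElt (he₀.res hU₀) N)
  obtain ⟨a, ha⟩ := hgen.2 (SecTwist.val s U)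
  have hspan := hs ⟨U, hU⟩
  rw [hI] at hspan
  haveI : IsLocallyNoetherian X := LocallyOfFiniteType.isLocallyNoetherian f
  haveI : IsIntegral (U : X.Opens).toScheme := isIntegral_of_isOpenImmersion (U : X.Opens).ι
  haveI : IsDomain Γ(X, U) := (U : X.Opens).topIso.commRingCatIsoToRingEquiv.symm.toMulEquiv.isDomain _
  have h1 : SecTwist.val s U ∈ Ideal.span {g ^ α i₀} • (⊤ : Submodule Γ(X, U) ((CohB1.tensorPow L N).val.obj (op U))) :=
    hspan.le (Submodule.mem_span_singleton_self _)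
  rw [Submodule.ideal_span_singleton_smul] at h1
  obtain ⟨m₁, -, hm₁⟩ := h1
  obtain ⟨b, hb⟩ := hgen.2 m₁
  have hab : a = g ^ α i₀ * b := hgen.1 (by
    show a • _ = (g ^ α i₀ * b) • _
    rw [mul_smul]
    exact ha.trans (hm₁.symm.trans (congrArg (g ^ α i₀ • ·) hb.symm)))
  have h2 : g ^ α i₀ • lpow L U (AModX.res L hU₀ e₀) N ∈ Submodule.span Γ(X, U) {SecTwist.val s U} := by
    refine hspan.ge ?_
    exact Submodule.smul_mem_smul (Ideal.mem_span_singleton_self _) trivial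
  obtain ⟨c, hc⟩ := Submodule.mem_span_singleton.1 h2
  have hcb : c * b = 1 := by
    refine mul_left_cancel₀ (pow_ne_zero (α i₀) hg0) ?_
    rw [mul_one, ← mul_assoc, mul_comm _ c, mul_assoc, ← hab]
    refine hgen.1 ?_
    show (c * a) • _ = (g ^ α i₀) • _
    rw [mul_smul]
    exact (congrArg (c • ·) ha).trans hc
  refine ⟨⟨U, hU⟩, AModX.res L hU₀ e₀, ⟨b, c, by rw [mul_comm]; exact hcb, hcb⟩, g, hxU, fun z hz => (hle hz).2,
    he₀.res hU₀, hg0, hI₀, ?_, hreg, ?_, fun j hj => hDtop j hj ⟨U, hU⟩ hUW⟩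
  · exact isRegularRing_sections (fun y => GrpSchLib.isRegularLocalRing_stalk_of_smooth f y) hU
  · show SecTwist.val s U = (b * g ^ α i₀) • _
    rw [mul_comm b, ← hab]
    exact ha.symm

/-- All ideals of branch components are trivial near a point off them. -/
theorem exists_nhd_top {r : ℕ} (D : Fin r → X.IdealSheafData) (P : Fin r → Prop) {x : X}
    (hx : ∀ j, P j → x ∉ (D j).support) (O : X.Opens) (hxO : x ∈ O) :
    ∃ U : X.affineOpens, x ∈ U.1 ∧ U.1 ≤ O ∧ ∀ j, P j → (∀ y ∈ U.1, y ∉ (D j).support) := by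
  classical
  let S : Set X := ⋂ j : Fin r, if P j then ((D j).support : Set X)ᶜ else Set.univ
  have hS : IsOpen S := isOpen_iInter_of_finite fun j => by
    split_ifs
    · exact (D j).support.isClosed.isOpen_compl
    · exact isOpen_univ
  obtain ⟨U, hU, hxU, hle⟩ := exists_isAffineOpen_mem_and_subset (x := x) (U := ⟨S, hS⟩ ⊓ O) ⟨Set.mem_iInter.2 fun j => by
    split_ifs with h
    · exact hx j h
    · trivial, hxO⟩
  exact ⟨⟨U, hU⟩, hxU, fun z hz => (hle hz).2, fun j hj y hy => by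
    have := Set.mem_iInter.1 (hle hy).1 j
    rw [if_pos hj] at this
    exact this⟩

theorem comap_ideal_top_of (π : Y ⟶ X) [IsAffineHom π] (I : X.IdealSheafData) (U : X.affineOpens)
    (h : I.ideal U = ⊤) : (I.comap π).ideal ⟨π ⁻¹ᵁ U.1, U.2.preimage π⟩ = ⊤ := by
  rw [ModPairLib.ideal_comap I π U ⟨π ⁻¹ᵁ U.1, U.2.preimage π⟩ le_rfl, h, Ideal.map_top]

theorem comap_ideal_span (π : Y ⟶ X) [IsAffineHom π] (I : X.IdealSheafData) (U : X.affineOpens) (g : Γ(X, U.1))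
    (h : I.ideal U = Ideal.span {g}) :
    (I.comap π).ideal ⟨π ⁻¹ᵁ U.1, U.2.preimage π⟩ = Ideal.span {(π.app U.1).hom g} := by
  rw [ModPairLib.ideal_comap I π U ⟨π ⁻¹ᵁ U.1, U.2.preimage π⟩ le_rfl, h, Ideal.map_span, Set.image_singleton,
    Scheme.Hom.appLE_eq_app]

end Groth.Agent.CycEtLib
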