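import Groth.Prelude.Def_Pi1
import Groth.Prelude.Def_EGA4b
import Groth.Agent.S2102
import Groth.Agent.RegLoc6.Normal
import Groth.Agent.GrpSchLib.SmoothRegular
import Groth.Agent.SmoothVarLib.Basic

/-! Normality and regularity of sections, light versions. -/

set_option autoImplicit false
set_option backward.isDefEq.respectTransparency false
set_option backward.isDefEq.respectTransparency.types false
universe u
open CategoryTheory AlgebraicGeometry

namespace Groth.Agent.CycEtLib

theorem isNormalRing_sections {S : Scheme.{u}} (hS : Pi1.IsNormalScheme S) {U : S.Opens}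
    (hU : IsAffineOpen U) : EGA4.IsNormalRing Γ(S, U) := by
  intro p hp
  let y : S := hU.fromSpec ⟨p, hp⟩
  have hy : y ∈ U := by
    have : y ∈ Set.range hU.fromSpec := ⟨_, rfl⟩
    rwa [hU.range_fromSpec] at this
  have hpy : hU.primeIdealOf ⟨y, hy⟩ = ⟨p, hp⟩ :=
    hU.fromSpec.isOpenEmbedding.injective (hU.fromSpec_primeIdealOf ⟨y, hy⟩)
  let _ := TopCat.Presheaf.algebra_section_stalk S.presheaf ⟨y, hy⟩
  have h := hU.isLocalization_stalk ⟨y, hy⟩
  rw [hpy] at h
  let e : S.presheaf.stalk y ≃+* Localization.AtPrime p :=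
    (IsLocalization.algEquiv p.primeCompl (S.presheaf.stalk y) (Localization.AtPrime p)).toRingEquiv
  obtain ⟨hd, hn⟩ := hS y
  exact ⟨e.symm.toMulEquiv.isDomain _, IsIntegrallyClosed.of_equiv e⟩

theorem isIntegrallyClosed_sections {X : Scheme.{u}} (hX : Pi1.IsNormalScheme X) (W : X.Opens)
    [AlgebraicGeometry.IsIntegral W.toScheme] : IsIntegrallyClosed Γ(X, W) := by
  have := S2102.result W.toScheme (fun w => by
    let e := (asIso (W.ι.stalkMap w)).commRingCatIsoToRingEquiv
    obtain ⟨hd, hn⟩ := hX (W.ι w)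
    exact ⟨e.symm.toMulEquiv.isDomain _, IsIntegrallyClosed.of_equiv e⟩)
  exact IsIntegrallyClosed.of_equiv W.topIso.commRingCatIsoToRingEquiv

/-- A smooth scheme over a field is normal. -/
theorem isNormalScheme_of_smooth_field {k : Type u} [Field k] {X : Scheme.{u}}
    (f : X ⟶ Spec (CommRingCat.of k)) [Smooth f] : Pi1.IsNormalScheme X := fun x => by
  haveI := GrpSchLib.isRegularLocalRing_stalk_of_smooth f x
  exact ⟨RegLoc6.isDomain_of_isRegularLocalRing _, RegLoc6.isIntegrallyClosed_of_isRegularLocalRing _⟩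

theorem isRegularRing_sections {X : Scheme.{u}} [IsLocallyNoetherian X]
    (hX : ∀ x : X, IsRegularLocalRing ↑(X.presheaf.stalk x)) {U : X.Opens} (hU : IsAffineOpen U) :
    IsRegularRing Γ(X, U) := by
  haveI : IsNoetherianRing Γ(X, U) := IsLocallyNoetherian.component_noetherian ⟨U, hU⟩
  rw [isRegularRing_iff]
  intro p hp
  have hy : hU.fromSpec ⟨p, hp⟩ ∈ U := hU.range_fromSpec.le ⟨_, rfl⟩
  letI := TopCat.Presheaf.algebra_section_stalk X.presheaf (⟨_, hy⟩ : U)
  haveI : IsLocalization.AtPrime (X.presheaf.stalk (hU.fromSpec ⟨p, hp⟩)) p := hU.isLocalization_stalk' ⟨p, hp⟩ hy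
  haveI := hX (hU.fromSpec ⟨p, hp⟩)
  exact IsRegularLocalRing.of_ringEquiv (IsLocalization.algEquiv p.primeCompl
    (X.presheaf.stalk (hU.fromSpec ⟨p, hp⟩)) (Localization.AtPrime p)).toRingEquiv

/-- An affine open with regular sections is smooth over an algebraically closed field. -/
theorem smooth_of_isRegularRing {k : Type u} [Field k] [IsAlgClosed k] {Y : Scheme.{u}}
    (g : Y ⟶ Spec (CommRingCat.of k)) [LocallyOfFiniteType g] {O : Y.Opens} (hO : IsAffineOpen O)
    [IsRegularRing Γ(Y, O)] : Smooth (O.ι ≫ g) := by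
  haveI : IsAffine O.toScheme := hO
  haveI : IsRegularRing Γ(O.toScheme, ⊤) := IsRegularRing.of_ringEquiv O.topIso.commRingCatIsoToRingEquiv.symm
  let K := CommRingCat.of k
  let φ := (Scheme.ΓSpecIso K).inv ≫ (O.ι ≫ g).appTop
  rw [HasRingHomProperty.iff_of_isAffine (P := @Smooth)]
  have hft : ((O.ι ≫ g).appTop).hom.FiniteType :=
    (HasRingHomProperty.iff_of_isAffine (P := @LocallyOfFiniteType)).1 inferInstance
  letI := φ.hom.toAlgebra
  haveI : Algebra.FiniteType k Γ(O.toScheme, ⊤) :=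
    hft.comp (RingHom.FiniteType.of_surjective _ (ConcreteCategory.bijective_of_isIso (Scheme.ΓSpecIso K).inv).2)
  have hsm : φ.hom.Smooth := by
    have := SmoothVarLib.smooth_of_regular k Γ(O.toScheme, ⊤)
    exact this
  have : (O.ι ≫ g).appTop = (Scheme.ΓSpecIso K).hom ≫ φ := by simp [φ]
  rw [this]
  exact RingHom.Smooth.respectsIso.2 _ (Scheme.ΓSpecIso K).commRingCatIsoToRingEquiv hsm

end Groth.Agent.CycEtLib
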