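import Groth.Prelude.Def_CycCov
import Groth.Agent.CycEtLib.Alg
import Groth.Agent.AmpleX.Extend
import Groth.Agent.BlowUpX.Basic
import Groth.Agent.CycEtLib.Normal

/-! The cyclic cover away from the branch divisor. -/

set_option autoImplicit false
set_option backward.isDefEq.respectTransparency false
set_option backward.isDefEq.respectTransparency.types false
universe u
open CategoryTheory AlgebraicGeometry Opposite TopologicalSpace

namespace Groth.Agent.CycEtLib

open CycCov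

variable {X Y : Scheme.{u}} {L : X.Modules} {N : ℕ}
  {s : Coh.structureModule X ⟶ CohB1.tensorPow L N} {π : Y ⟶ X}

theorem lpow_eq {U : X.Opens} (e : Γ(L, U)) : ∀ n, lpow L U e n = AmpleX.powElt e n
  | 0 => rfl
  | n + 1 => by
    rw [AmpleX.powElt_succ, ← lpow_eq e n]
    rfl

theorem isGen_of_isFrame {U : X.Opens} {e : Γ(L, U)} (he : InvX.IsFrame e) : IsGen L U e := by
  have h := he U le_rfl
  rw [AModX.res_self] at h
  exact h

theorem eq_smul_res {U V : X.Opens} (h : V ≤ U) {e : Γ(L, U)} {f : Γ(X, U)}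
    (hf : SecTwist.val s U = f • lpow L U e N) :
    SecTwist.val s V = (X.presheaf.map (homOfLE h).op f) • lpow L V (AModX.res L h e) N := by
  rw [← SecTwist.map_val s (homOfLE h), hf, lpow_eq, lpow_eq, ← AmpleX.res_powElt]
  exact AModX.res_smul h f _

/-- Charts commute with restriction. -/
theorem chart_res (R : Root L N s π) {U V : X.affineOpens} (h : V.1 ≤ U.1) {e : Γ(L, U.1)} (he : InvX.IsFrame e)
    {f : Γ(X, U.1)} (hf : SecTwist.val s U.1 = f • lpow L U.1 e N)
    (a : AdjoinRoot (Polynomial.X ^ N - Polynomial.C f)) :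
    Y.presheaf.map (homOfLE (π.preimage_mono h)).op (chart R U e (isGen_of_isFrame he) f hf a) =
      chart R V (AModX.res L h e) (isGen_of_isFrame (he.res h)) (X.presheaf.map (homOfLE h).op f) (eq_smul_res h hf)
        (rootMap (X.presheaf.map (homOfLE h).op).hom N f a) := by
  obtain ⟨p, rfl⟩ := AdjoinRoot.mk_surjective a
  simp only [chart, rootMap_mk, AdjoinRoot.lift_mk, Polynomial.eval₂_map]
  rw [Polynomial.hom_eval₂]
  congr 1
  · ext x
    exact (ConcreteCategory.congr_hom (π.naturality (homOfLE h).op) x).symm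
  · exact R.t_res U V h e (isGen_of_isFrame he) (isGen_of_isFrame (he.res h))

/-- A function on `π⁻¹U` killed by restriction to the preimage of a nonempty open is zero. -/
theorem eq_zero_of_res [IsIntegral X] [IsReduced Y] (R : Root L N s π) (hN : 0 < N) (W : X.Opens)
    (hW : Dense ((π ⁻¹ᵁ W : Y.Opens) : Set Y))
    (hb : ∀ (U : X.affineOpens), U.1 ≤ W → ∀ (e : L.val.obj (op U.1)) (he : IsGen L U.1 e) (f : Γ(X, U.1))
      (hf : SecTwist.val s U.1 = f • lpow L U.1 e N), Function.Bijective (chart R U e he f hf))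
    {U D : X.affineOpens} (hle : D.1 ≤ U.1) [Nonempty ↥D.1] {e : Γ(L, U.1)} (he : InvX.IsFrame e) {f : Γ(X, U.1)}
    (hf : SecTwist.val s U.1 = f • lpow L U.1 e N) (c : Γ(Y, π ⁻¹ᵁ U.1))
    (hc : Y.presheaf.map (homOfLE (π.preimage_mono hle)).op c = 0) : c = 0 := by
  refine (basicOpen_eq_bot_iff c).1 (eq_bot_iff.2 fun y hy => ?_)
  obtain ⟨z, hzc, hzW⟩ := hW.inter_open_nonempty _ (Y.basicOpen c).2 ⟨y, hy⟩
  have hzU : π z ∈ U.1 := Y.basicOpen_le c hzc
  obtain ⟨V, hV, hzV, hVle⟩ := exists_isAffineOpen_mem_and_subset (x := π z) (U := U.1 ⊓ W) ⟨hzU, hzW⟩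
  have hVU : V ≤ U.1 := fun x hx => (hVle hx).1
  have hVW : V ≤ W := fun x hx => (hVle hx).2
  obtain ⟨a, ha⟩ := (hb ⟨V, hV⟩ hVW _ (isGen_of_isFrame (he.res hVU)) _ (eq_smul_res hVU hf)).2
    (Y.presheaf.map (homOfLE (π.preimage_mono hVU)).op c)
  obtain ⟨w, hwV, hwD⟩ := nonempty_preirreducible_inter V.2 D.1.2 ⟨π z, hzV⟩
    (let ⟨d⟩ := ‹Nonempty ↥D.1›; ⟨d.1, d.2⟩)
  obtain ⟨V', hV', hwV', hV'le⟩ := exists_isAffineOpen_mem_and_subset (x := w) (U := V ⊓ D.1) ⟨hwV, hwD⟩
  have hV'V : V' ≤ V := fun x hx => (hV'le hx).1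
  have hV'D : V' ≤ D.1 := fun x hx => (hV'le hx).2
  have h1 := chart_res R (U := ⟨V, hV⟩) (V := ⟨V', hV'⟩) hV'V (he.res hVU) (eq_smul_res hVU hf) a
  rw [ha, ← CommRingCat.comp_apply, ← Functor.map_comp,
    show (homOfLE (π.preimage_mono hVU)).op ≫ (homOfLE (π.preimage_mono hV'V)).op =
      (homOfLE (π.preimage_mono hle)).op ≫ (homOfLE (π.preimage_mono hV'D)).op from Subsingleton.elim _ _,
    Functor.map_comp, CommRingCat.comp_apply, hc, map_zero] at h1
  haveI : Nonempty ↥V' := ⟨⟨w, hwV'⟩⟩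
  haveI : Nonempty ↥(V' : X.Opens).toScheme := ⟨⟨w, hwV'⟩⟩
  have ha0 : a = 0 := by
    refine rootMap_injective (map_injective_of_isIntegral (X := X) (homOfLE hV'V)) hN _ ?_
    rw [map_zero]
    exact (hb ⟨V', hV'⟩ (hV'V.trans hVW) _ (isGen_of_isFrame ((he.res hVU).res hV'V)) _
      (eq_smul_res hV'V (eq_smul_res hVU hf))).1 (h1.symm.trans (map_zero _).symm)
  rw [ha0, map_zero] at ha
  have h2 : Y.basicOpen (Y.presheaf.map (homOfLE (π.preimage_mono hVU)).op c) = ⊥ :=
    (basicOpen_eq_bot_iff _).2 ha.symm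
  rw [Scheme.basicOpen_res] at h2
  exact absurd (show z ∈ (π ⁻¹ᵁ V ⊓ Y.basicOpen c : Y.Opens) from ⟨hzV, hzc⟩) (by rw [h2]; exact id)

/-- Over an affine with unit equation the normalised cover is the root algebra. -/
theorem bijective_chart [IsIntegral X] [IsReduced Y] [IsFinite π] (hX : Pi1.IsNormalScheme X) (R : Root L N s π)
    (hN : 0 < N) (W : X.Opens) (hWne : Dense (W : Set X)) (hW : Dense ((π ⁻¹ᵁ W : Y.Opens) : Set Y))
    (hb : ∀ (U : X.affineOpens), U.1 ≤ W → ∀ (e : L.val.obj (op U.1)) (he : IsGen L U.1 e) (f : Γ(X, U.1))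
      (hf : SecTwist.val s U.1 = f • lpow L U.1 e N), Function.Bijective (chart R U e he f hf))
    (U : X.affineOpens) [Nonempty ↥U.1] (hNu : IsUnit (N : Γ(X, U.1))) {e : Γ(L, U.1)} (he : InvX.IsFrame e)
    {f : Γ(X, U.1)} (hfu : IsUnit f) (hf : SecTwist.val s U.1 = f • lpow L U.1 e N) :
    Function.Bijective (chart R U e (isGen_of_isFrame he) f hf) := by
  obtain ⟨x, hxU, hxW⟩ := hWne.inter_open_nonempty (U.1 : Set X) U.1.2 (let ⟨d⟩ := ‹Nonempty ↥U.1›; ⟨d.1, d.2⟩)
  obtain ⟨g, hgW, hxg⟩ := U.2.exists_basicOpen_le (V := W) ⟨x, hxW⟩ hxU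
  let D : X.affineOpens := ⟨X.basicOpen g, U.2.basicOpen g⟩
  have hle : D.1 ≤ U.1 := X.basicOpen_le g
  haveI hD0 : Nonempty ↥D.1 := ⟨⟨x, hxg⟩⟩
  haveI : Nonempty ↥(D.1 : X.Opens).toScheme := ⟨⟨x, hxg⟩⟩
  haveI : IsIntegral U.1.toScheme := by
    haveI : Nonempty ↥U.1.toScheme := ‹Nonempty ↥U.1›
    exact isIntegral_of_isOpenImmersion U.1.ι
  haveI := isIntegrallyClosed_sections hX U.1
  haveI := etale_root hN hNu hfu
  have hbD := hb D hgW _ (isGen_of_isFrame (he.res hle)) _ (eq_smul_res hle hf)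
  have hinj : Function.Injective (chart R U e (isGen_of_isFrame he) f hf) := by
    rw [injective_iff_map_eq_zero]
    intro a ha
    have h1 := chart_res R hle he hf a
    rw [ha, map_zero] at h1
    refine rootMap_injective (map_injective_of_isIntegral (X := X) (homOfLE hle)) hN _ ?_
    rw [map_zero]
    exact hbD.1 (h1.symm.trans (map_zero _).symm)
  refine ⟨hinj, ?_⟩
  have hbase : ∀ b, chart R U e (isGen_of_isFrame he) f hf (algebraMap _ _ b) = (π.app U.1).hom b := fun b =>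
    AdjoinRoot.lift_of _
  have hg : g ≠ 0 := fun h => by
    rw [h, Scheme.basicOpen_zero] at hxg
    exact hxg
  have hpre : π ⁻¹ᵁ D.1 = Y.basicOpen ((π.app U.1).hom g) := Scheme.preimage_basicOpen _ _
  refine surjective_of_integral _ hinj ?_ hg (fun c hc => ?_) fun c => ?_
  · rw [show (chart R U e (isGen_of_isFrame he) f hf).comp (algebraMap _ _) = (π.app U.1).hom from
      RingHom.ext hbase]
    exact (IsFinite.finite_app π U.1 U.2).to_isIntegral
  · refine eq_zero_of_res R hN W hW hb hle he hf c ?_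
    rw [hbase] at hc
    have hu : IsUnit (Y.presheaf.map (homOfLE (π.preimage_mono hle)).op ((π.app U.1).hom g)) := by
      have h2 : IsUnit (X.presheaf.map (homOfLE hle).op g) := RingedSpace.isUnit_res_basicOpen _ g
      have h3 := ConcreteCategory.congr_hom (π.naturality (homOfLE hle).op) g
      exact h3 ▸ h2.map (π.app D.1).hom
    have h4 := congrArg (Y.presheaf.map (homOfLE (π.preimage_mono hle)).op) hc
    rw [map_mul, map_zero] at h4
    exact hu.mul_right_eq_zero.1 h4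
  · obtain ⟨x', hx'⟩ := hbD.2 (Y.presheaf.map (homOfLE (π.preimage_mono hle)).op c)
    letI : Algebra Γ(X, U.1) Γ(X, D.1) := (X.presheaf.map (homOfLE hle).op).hom.toAlgebra
    haveI : IsLocalization.Away g Γ(X, D.1) := U.2.isLocalization_basicOpen g
    obtain ⟨n, a, ha⟩ := exists_num g N f x'
    refine ⟨n, a, sub_eq_zero.1 (eq_zero_of_res R hN W hW hb hle he hf _ ?_)⟩
    rw [map_sub, map_mul, map_pow, hbase, chart_res R hle he hf a, ← hx']
    have h3 := ConcreteCategory.congr_hom (π.naturality (homOfLE hle).op) g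
    rw [sub_eq_zero]
    erw [← ha]
    rw [map_mul, map_pow]
    congr 2
    refine h3.symm.trans ?_
    rw [chart]
    exact (@AdjoinRoot.lift_of Γ(X, D.1) Γ(Y, π ⁻¹ᵁ D.1) _ _ _ (π.app D.1).hom _ _ _).symm

/-- Étale over such an affine. -/
theorem etale_restrict [IsFinite π] (R : Root L N s π) (hN : 0 < N) (U : X.affineOpens)
    (hNu : IsUnit (N : Γ(X, U.1))) {e : Γ(L, U.1)} (he : IsGen L U.1 e)
    {f : Γ(X, U.1)} (hfu : IsUnit f) (hf : SecTwist.val s U.1 = f • lpow L U.1 e N)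
    (hb : Function.Bijective (chart R U e he f hf)) : Etale (π ∣_ U.1) := by
  haveI := etale_root hN hNu hfu
  haveI : IsAffine U.1.toScheme := U.2
  haveI : IsAffine (π ⁻¹ᵁ U.1).toScheme := U.2.preimage π
  rw [HasRingHomProperty.iff_of_isAffine (P := @Etale),
    ← Scheme.Hom.resLE_eq_morphismRestrict, RingHom.Etale.respectsIso.arrow_mk_iso_iff (arrowResLEAppIso π _ _ le_rfl), Scheme.Hom.appLE_eq_app]
  letI := (π.app U.1).hom.toAlgebra
  let φ : AdjoinRoot (Polynomial.X ^ N - Polynomial.C f) ≃ₐ[Γ(X, U.1)] Γ(Y, π ⁻¹ᵁ U.1) :=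
    AlgEquiv.ofRingEquiv (f := RingEquiv.ofBijective _ hb) fun b => by
      show chart R U e he f hf (AdjoinRoot.of _ b) = _
      simp only [chart, AdjoinRoot.lift_of]
      rfl
  exact (RingHom.etale_algebraMap).2 (Algebra.Etale.of_equiv φ)

end Groth.Agent.CycEtLib
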