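import Groth.Agent.CycEtLib.Branch

/-! Global consequences: ramification and regularity of the cyclic cover. -/

set_option autoImplicit false
set_option backward.isDefEq.respectTransparency false
set_option backward.isDefEq.respectTransparency.types false
universe u
open CategoryTheory AlgebraicGeometry Opposite TopologicalSpace

namespace Groth.Agent.CycEtLib

open CycCov

variable {k : Type u} [Field k] {X Y : Scheme.{u}} (f : X ⟶ Spec (CommRingCat.of k)) [Smooth f] [IsIntegral X]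
  {L : X.Modules} {N : ℕ} {s : Coh.structureModule X ⟶ CohB1.tensorPow L N} {π : Y ⟶ X}
  {r : ℕ} {D : Fin r → X.IdealSheafData} {α : Fin r → ℕ}

include f in
theorem isUnit_natCast (hNk : (N : k) ≠ 0) (U : X.Opens) : IsUnit (N : Γ(X, U)) := by
  have h := ((Ne.isUnit hNk).map ((Scheme.ΓSpecIso (CommRingCat.of k)).inv.hom)).map (f.appLE ⊤ U le_top).hom
  rwa [map_natCast, map_natCast] at h

include f in
theorem exists_model_nhd (hL : PicF.IsInvertible L) (hN : 0 < N) (hNk : (N : k) ≠ 0)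
    (hD : LogNCD.IsNCD D f) (hs : IsZeroDiv (CohB1.tensorPow L N) s (divIdeal D α))
    (R : Root L N s π) (hR : IsCover R) {x : X} {i₀ : Fin r} (hx : x ∈ (D i₀).support)
    (O : X.Opens) (hxO : x ∈ O) (hone : ∀ j, j ≠ i₀ → 0 < α j → x ∉ (D j).support) :
    ∃ (U : X.affineOpens) (g : Γ(X, U.1)), x ∈ U.1 ∧ U.1 ≤ O ∧ (D i₀).ideal U = Ideal.span {g} ∧
      (∀ j, x ∉ (D j).support → (D j).ideal U = ⊤) ∧ IsRegularRing Γ(Y, π ⁻¹ᵁ U.1) ∧
      (Ideal.span {(π.app U.1).hom g}).radical ^ (N / Nat.gcd N (α i₀)) = Ideal.span {(π.app U.1).hom g} := by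
  obtain ⟨hfin, hYn, W₀, hW₀, hW₀Y, hb⟩ := hR
  haveI := hfin
  have hXn : Pi1.IsNormalScheme X :=
    isNormalScheme_of_smooth_field f
  haveI : ∀ y : Y, _root_.IsReduced (Y.presheaf.stalk y) := fun y => by
    haveI := (hYn y).1
    infer_instance
  haveI : IsReduced Y := isReduced_of_isReduced_stalk Y
  obtain ⟨U, e, u, g, hxU, hUO, he, hg, hI, hreg, hregq, hf, htop⟩ := exists_branch_chart f hL D α hD hs hx O hxO hone
  haveI := hreg
  haveI := hregq
  haveI : Nonempty ↥U.1 := ⟨⟨x, hxU⟩⟩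
  obtain ⟨h1, h2⟩ := exists_iso_model hXn hYn R hN W₀ hW₀ hW₀Y hb U (isUnit_natCast f hNk U.1) he u g (α i₀) hg hf
  exact ⟨U, g, hxU, hUO, hI, htop, h1, h2⟩

include f in
theorem comap_eq_radical_pow (hL : PicF.IsInvertible L) (hN : 0 < N) (hNk : (N : k) ≠ 0)
    (hD : LogNCD.IsNCD D f) (hs : IsZeroDiv (CohB1.tensorPow L N) s (divIdeal D α))
    (R : Root L N s π) (hR : IsCover R) (W : X.Opens)
    (hW : ∀ x ∈ W, ∀ j j' : Fin r, x ∈ (D j).support → x ∈ (D j').support → j = j')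
    [IsAffineHom π] (y : Y) (hyW : π y ∈ W) :
    ∃ U : X.affineOpens, π y ∈ U.1 ∧ ∀ j, ((D j).comap π).ideal ⟨π ⁻¹ᵁ U.1, U.2.preimage π⟩ =
      ((((D j).comap π).radical ^ (N / Nat.gcd N (α j)))).ideal ⟨π ⁻¹ᵁ U.1, U.2.preimage π⟩ := by
  classical
  have htriv : ∀ (U : X.affineOpens) (j : Fin r), (D j).ideal U = ⊤ →
      ((D j).comap π).ideal ⟨π ⁻¹ᵁ U.1, U.2.preimage π⟩ =
        ((((D j).comap π).radical ^ (N / Nat.gcd N (α j)))).ideal ⟨π ⁻¹ᵁ U.1, U.2.preimage π⟩ := fun U j h => by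
    rw [Scheme.IdealSheafData.ideal_pow, Pi.pow_apply, Scheme.IdealSheafData.radical_ideal,
      comap_ideal_top_of π _ U h, Ideal.radical_top, ← Ideal.one_eq_top, one_pow]
  by_cases hx : ∃ i₀, π y ∈ (D i₀).support
  · obtain ⟨i₀, hx⟩ := hx
    obtain ⟨U, g, hxU, -, hI, htop, -, hrad⟩ := exists_model_nhd f hL hN hNk hD hs R hR hx W hyW
      (fun j hj _ h => hj (hW _ hyW _ _ h hx))
    refine ⟨U, hxU, fun j => ?_⟩
    by_cases hj : j = i₀
    · subst hj
      rw [Scheme.IdealSheafData.ideal_pow, Pi.pow_apply, Scheme.IdealSheafData.radical_ideal, comap_ideal_span π _ U g hI]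
      exact hrad.symm
    · exact htriv U j (htop j fun h => hj (hW _ hyW _ _ h hx))
  · push Not at hx
    obtain ⟨U, hxU, -, hU⟩ := exists_nhd_top D (fun _ => True) (fun j _ => hx j) W hyW
    exact ⟨U, hxU, fun j =>
      htriv U j (BlowUpX.ideal_eq_top_of_disjoint (D j) U (hU j trivial))⟩

theorem ideal_comap_divIdeal [IsAffineHom π] (U : X.affineOpens) :
    ((divIdeal D α).comap π).ideal ⟨π ⁻¹ᵁ U.1, U.2.preimage π⟩ =
      ∏ j, ((D j).comap π).ideal ⟨π ⁻¹ᵁ U.1, U.2.preimage π⟩ ^ α j := by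
  rw [ModPairLib.ideal_comap _ π U ⟨π ⁻¹ᵁ U.1, U.2.preimage π⟩ le_rfl, divIdeal, ideal_prod]
  simp only [Scheme.IdealSheafData.ideal_pow, Pi.pow_apply]
  refine (map_prod (Ideal.mapHom (π.appLE U.1 (π ⁻¹ᵁ U.1) le_rfl).hom) _ _).trans ?_
  refine Finset.prod_congr rfl fun j _ => ?_
  show Ideal.map _ ((D j).ideal U ^ α j) = _
  rw [Ideal.map_pow, ModPairLib.ideal_comap _ π U ⟨π ⁻¹ᵁ U.1, U.2.preimage π⟩ le_rfl]

end Groth.Agent.CycEtLib
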